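import Mathlib
import Cfsg.Prelude.Def_ChevStructure
import Cfsg.Prelude.Def_ChevF4
import Cfsg.Agent.Lib.Helper5.ChevXGL
import Cfsg.Agent.Lib.Helper5.ChevRootSet
import Cfsg.Agent.Lib.Helper5.ChevOrdProd
import Cfsg.Agent.Lib.Helper5.F4T.Tau

set_option autoImplicit false

/-!
# Farm F4CENT (S2179): centralizers of the mixed involutions `x₄₇(1) x₄₄(1)` and `x₃₉(1) x₄₅(1)`
of `F₄(q)`, `q` even — definitions

`p₁ = 33, p₂ = 27` short, `p₃ = 25, p₄ = 24` long; negatives `14, 20, 22, 23`.
-/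

namespace Cfsg.Agent.Lib.Helper1.F4Cent

open Cfsg Cfsg.Lie Cfsg.Agent.Lib.Helper5.ChevSym Cfsg.Agent.Lib.Helper5.ChevStruct
  Cfsg.Agent.Lib.Helper5.F4T

/-- the roots of the first family: the highest short and the highest long root -/
def T1 : List ℕ := [44, 47]

/-- the roots of the second family -/
def T2 : List ℕ := [39, 40, 44, 45, 46, 47]

/-- the roots of the centralizer of `x₄₇(1) x₄₄(1)` -/
def rootsI : Set ℕ := {r | chevF4.IsPosRoot r ∨ r ∈ [20, 22]}

/-- the roots of the centralizer of `x₃₉(1) x₄₅(1)` -/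
def rootsII : Set ℕ :=
  {r | r ∈ [33, 14, 24, 23] ∨ (chevF4.IsPosRoot r ∧ r ∉ [27, 25, 34, 26])}

/-- the roots of the Levi factor `A₁ × A₁` of the second centralizer -/
def rootsL : Set ℕ := {r | r ∈ [33, 14, 24, 23]}

/-- the positive roots of level at least two with respect to `{p₂, p₃}` -/
def rootsPsi : Set ℕ := {r | chevF4.IsPosRoot r ∧ r ∉ [33, 24, 27, 25, 34, 26]}

variable (F : Type*) [Field F]

/-- the first mixed involution -/
def wI : GL chevF4.Idx F := xGL chevF4 hF4 47 1 * xGL chevF4 hF4 44 1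

/-- the second mixed involution -/
def vII : GL chevF4.Idx F := xGL chevF4 hF4 39 1 * xGL chevF4 hF4 45 1

/-- the first centralizer -/
def RI : Subgroup (GL chevF4.Idx F) := rootSetSub chevF4 F rootsI

/-- the second centralizer -/
def RII : Subgroup (GL chevF4.Idx F) := rootSetSub chevF4 F rootsII

end Cfsg.Agent.Lib.Helper1.F4Cent
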