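import Mathlib
import Cfsg.Agent.Lib.Helper1.F4Cent.Defs
import Cfsg.Agent.Lib.Helper4.F4CentCC
import Cfsg.Agent.Lib.Helper5.RootCent.Main
import Cfsg.Agent.Lib.Helper6.F4EvA1

set_option autoImplicit false

/-!
# Farm F4CENT (S2179), unit CELL : the Bruhat cells meeting the centralizer

Generic statement: `u₀ = ∏_{s ∈ T} x_s(t₀ s)` with `T` commuting, a family lemma `hFA` for the
conjugates of such products under `B` (keeping the coordinates of the `core` roots non-zero) and a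
table lemma `hTB` for the Weyl group: every element of the centralizer of `u₀` lies in a cell
`B n_w B` with `w` a word in `J`.
-/

namespace Cfsg.Agent.Lib.Helper1.F4Cent

open Cfsg Cfsg.Lie Cfsg.Agent.Lib.Helper5.ChevSym Cfsg.Agent.Lib.Helper5.ChevStruct
  Cfsg.Agent.Lib.Helper5.F4T

variable {F : Type*} [Field F] [CharP F 2]

/-- the product of the root elements along `T` -/
def prodT (T : List ℕ) (t : ℕ → F) : GL chevF4.Idx F :=
  (T.map fun s => xGL chevF4 hF4 s (t s)).prod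

theorem cell_generic (T core J : List ℕ) (hnd : T.Nodup) (hpos : ∀ s ∈ T, chevF4.IsPosRoot s)
    (hcomm : ∀ s ∈ T, ∀ s' ∈ T, ∀ a b : F,
      Commute (xGL chevF4 hF4 s a) (xGL chevF4 hF4 s' b))
    (hcore : ∀ s ∈ core, s ∈ T) (hJ : ∀ i ∈ J, i < 4)
    (t0 : ℕ → F) (ht0 : ∀ s ∈ core, t0 s ≠ 0)
    (hFA : ∀ b ∈ chevF4.borelSubgroup F, ∀ t : ℕ → F, (∀ s ∈ core, t s ≠ 0) →
      ∃ t' : ℕ → F, (∀ s ∈ core, t' s ≠ 0) ∧ b * prodT T t * b⁻¹ = prodT T t')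
    (hTB : ∀ wd : List ℕ, Wd chevF4 wd → (∀ s ∈ core, wAct chevF4 wd s ∈ T) →
      (∀ s ∈ core, ∃ r ∈ T, wAct chevF4 wd r = s) →
      ∃ wJ : List ℕ, (∀ i ∈ wJ, i ∈ J) ∧ ∀ r < 48, wAct chevF4 wd r = wAct chevF4 wJ r)
    (g : GL chevF4.Idx F) (hg : g ∈ chevF4.group F) (hc : Commute g (prodT T t0)) :
    ∃ b1 ∈ chevF4.borelSubgroup F, ∃ b2 ∈ chevF4.borelSubgroup F, ∃ wJ : List ℕ,
      (∀ i ∈ wJ, i ∈ J) ∧ g = b1 * wGL chevF4 hF4 wJ * b2 := by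
  obtain ⟨n, hn, hmem⟩ := Cfsg.Agent.S0308.result (chevBNPair chevF4 hF4 F) ⟨g, hg⟩
  rw [DoubleCoset.mem_doubleCoset] at hmem
  obtain ⟨b1, hb1, b2, hb2, e⟩ := hmem
  have hn' : (n : GL chevF4.Idx F) ∈ chevF4.monomialSubgroup F := hn
  have hb1' : (b1 : GL chevF4.Idx F) ∈ chevF4.borelSubgroup F := hb1
  have hb2' : (b2 : GL chevF4.Idx F) ∈ chevF4.borelSubgroup F := hb2
  have e' : g = (b1 : GL chevF4.Idx F) * (n : GL chevF4.Idx F) * (b2 : GL chevF4.Idx F) :=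
    congrArg Subtype.val e
  obtain ⟨wd, hwd, h', hh', e3⟩ := exists_word_of_mem_monomial chevF4 hF4 _ hn'
  have hb2'' : h' * (b2 : GL chevF4.Idx F) ∈ chevF4.borelSubgroup F :=
    mul_mem (diagonal_le_borel chevF4 hh') hb2'
  have eg : g = (b1 : GL chevF4.Idx F) * wGL chevF4 hF4 wd * (h' * (b2 : GL chevF4.Idx F)) := by
    rw [e', e3]; group
  obtain ⟨t, ht, hy⟩ := hFA _ hb2'' t0 ht0
  obtain ⟨t', ht', hy'⟩ := hFA _ (inv_mem hb1') t0 ht0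
  have key : wGL chevF4 hF4 wd * prodT T t * (wGL chevF4 hF4 wd)⁻¹ = prodT T t' := by
    rw [← hy, ← hy']
    have : prodT T t0 = g * prodT T t0 * g⁻¹ := by
      rw [hc.eq, mul_inv_cancel_right]
    conv_rhs => rw [this, eg]
    group
  obtain ⟨c1, c2⟩ := Cfsg.Agent.Lib.Helper4.F4Cent.cell_constraint chevF4 hF4 T hnd hpos hcomm wd
    hwd t t' key
  obtain ⟨wJ, hwJ, hact⟩ := hTB wd hwd (fun s hs => (c1 s (hcore s hs) (ht s hs)).1)
    (fun s hs => by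
      obtain ⟨r, hr, h1, _⟩ := c2 s (hcore s hs) (ht' s hs)
      exact ⟨r, hr, h1⟩)
  have hWJ : Wd chevF4 wJ := fun i hi => hJ i (hwJ i hi)
  have ew : (wGL chevF4 hF4 wd : GL chevF4.Idx F) = wGL chevF4 hF4 wJ :=
    Cfsg.Agent.Lib.Helper6.F4Ev.A1h_wGL_congr chevF4 hF4 wd wJ hwd hWJ hact
  refine ⟨_, hb1', _, hb2'', wJ, hwJ, ?_⟩
  rw [eg, ew]

end Cfsg.Agent.Lib.Helper1.F4Cent
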