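import Mathlib
import Cfsg.Agent.Lib.Helper1.F4Cent.Cell
import Cfsg.Agent.Lib.Helper5.ChevTwistN

set_option autoImplicit false

/-!
# Farm F4CENT (S2179), unit CELL : the two instances (family and table lemmas as hypotheses)
-/

namespace Cfsg.Agent.Lib.Helper1.F4Cent

open Cfsg Cfsg.Lie Cfsg.Agent.Lib.Helper5.ChevSym Cfsg.Agent.Lib.Helper5.ChevStruct
  Cfsg.Agent.Lib.Helper5.F4T

variable {F : Type*} [Field F]

theorem T2_commOK : ∀ a ∈ T2, ∀ b ∈ T2, a ≠ b → commOK chevF4 a b = true := by decide +kernel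

theorem T2_pos : ∀ s ∈ T2, chevF4.IsPosRoot s := by decide +kernel

theorem T1_sub_T2 : ∀ s ∈ T1, s ∈ T2 := by decide

/-- the root subgroups of `T2` commute pairwise -/
theorem T2_comm : ∀ a ∈ T2, ∀ b ∈ T2, ∀ s u : F,
    Commute (xGL chevF4 hF4 a s) (xGL chevF4 hF4 b u) := by
  intro a ha b hb s u
  by_cases e : a = b
  · subst e
    apply Units.ext
    rw [Units.val_mul, Units.val_mul, xGL_val, xGL_val, x_add chevF4 hF4, x_add chevF4 hF4,
      add_comm]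
  · exact xGL_commute chevF4 hF4 a b (T2_commOK a ha b hb e) s u

theorem T1_comm : ∀ a ∈ T1, ∀ b ∈ T1, ∀ s u : F,
    Commute (xGL chevF4 hF4 a s) (xGL chevF4 hF4 b u) :=
  fun a ha b hb => T2_comm a (T1_sub_T2 a ha) b (T1_sub_T2 b hb)

theorem wI_eq : wI F = prodT T1 (fun _ => (1 : F)) := by
  unfold wI prodT T1
  simp only [List.map_cons, List.map_nil, List.prod_cons, List.prod_nil, mul_one]
  exact (T2_comm 47 (by decide) 44 (by decide) 1 1).eq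

theorem vII_eq : vII F = prodT T2 (fun s => if s = 39 ∨ s = 45 then (1 : F) else 0) := by
  have z : ∀ r, xGL chevF4 hF4 r (0 : F) = 1 := fun r =>
    Units.ext (by rw [xGL_val, x_at_zero, Units.val_one])
  unfold vII prodT T2
  simp [z]

variable [CharP F 2]

/-- Unit CELL, first half -/
theorem CELL_I_of
    (hFA1 : ∀ b ∈ chevF4.borelSubgroup F, ∀ t : ℕ → F, t 44 ≠ 0 → t 47 ≠ 0 →
      ∃ t' : ℕ → F, t' 44 ≠ 0 ∧ t' 47 ≠ 0 ∧ b * prodT T1 t * b⁻¹ = prodT T1 t')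
    (hTB1 : ∀ wd : List ℕ, Wd chevF4 wd → wAct chevF4 wd 44 ∈ T1 → wAct chevF4 wd 47 ∈ T1 →
      ∃ wJ : List ℕ, (∀ i ∈ wJ, i ∈ [1, 2]) ∧ ∀ r < 48, wAct chevF4 wd r = wAct chevF4 wJ r)
    (g : GL chevF4.Idx F) (hg : g ∈ chevF4.group F) (hc : Commute g (wI F)) :
    ∃ b1 ∈ chevF4.borelSubgroup F, ∃ b2 ∈ chevF4.borelSubgroup F, ∃ wJ : List ℕ,
      (∀ i ∈ wJ, i ∈ [1, 2]) ∧ g = b1 * wGL chevF4 hF4 wJ * b2 := by
  rw [wI_eq] at hc
  refine cell_generic T1 T1 [1, 2] (by decide) (fun s hs => T2_pos s (T1_sub_T2 s hs)) T1_comm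
    (fun s hs => hs) (by decide) (fun _ => 1) (fun _ _ => one_ne_zero) ?_ ?_ g hg hc
  · intro b hb t ht
    obtain ⟨t', h1, h2, h3⟩ := hFA1 b hb t (ht 44 (by decide)) (ht 47 (by decide))
    refine ⟨t', ?_, h3⟩
    intro s hs
    simp only [T1, List.mem_cons, List.not_mem_nil, or_false] at hs
    rcases hs with rfl | rfl
    · exact h1
    · exact h2
  · intro wd hwd h1 _
    exact hTB1 wd hwd (h1 44 (by decide)) (h1 47 (by decide))

/-- Unit CELL, second half -/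
theorem CELL_II_of
    (hFA2 : ∀ b ∈ chevF4.borelSubgroup F, ∀ t : ℕ → F, t 39 ≠ 0 → t 45 ≠ 0 →
      ∃ t' : ℕ → F, t' 39 ≠ 0 ∧ t' 45 ≠ 0 ∧ b * prodT T2 t * b⁻¹ = prodT T2 t')
    (hTB2 : ∀ wd : List ℕ, Wd chevF4 wd → wAct chevF4 wd 39 ∈ T2 → wAct chevF4 wd 45 ∈ T2 →
      (∃ r ∈ T2, wAct chevF4 wd r = 39) → (∃ r ∈ T2, wAct chevF4 wd r = 45) →
      ∃ wJ : List ℕ, (∀ i ∈ wJ, i ∈ [0, 3]) ∧ ∀ r < 48, wAct chevF4 wd r = wAct chevF4 wJ r)
    (g : GL chevF4.Idx F) (hg : g ∈ chevF4.group F) (hc : Commute g (vII F)) :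
    ∃ b1 ∈ chevF4.borelSubgroup F, ∃ b2 ∈ chevF4.borelSubgroup F, ∃ wJ : List ℕ,
      (∀ i ∈ wJ, i ∈ [0, 3]) ∧ g = b1 * wGL chevF4 hF4 wJ * b2 := by
  rw [vII_eq] at hc
  refine cell_generic T2 [39, 45] [0, 3] (by decide) T2_pos T2_comm (by decide) (by decide)
    (fun s => if s = 39 ∨ s = 45 then (1 : F) else 0) ?_ ?_ ?_ g hg hc
  · intro s hs
    simp only [List.mem_cons, List.not_mem_nil, or_false] at hs
    rw [if_pos hs]
    exact one_ne_zero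
  · intro b hb t ht
    obtain ⟨t', h1, h2, h3⟩ := hFA2 b hb t (ht 39 (by decide)) (ht 45 (by decide))
    refine ⟨t', ?_, h3⟩
    intro s hs
    simp only [List.mem_cons, List.not_mem_nil, or_false] at hs
    rcases hs with rfl | rfl
    · exact h1
    · exact h2
  · intro wd hwd h1 h2
    exact hTB2 wd hwd (h1 39 (by decide)) (h1 45 (by decide)) (h2 39 (by decide))
      (h2 45 (by decide))

end Cfsg.Agent.Lib.Helper1.F4Cent
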