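import Mathlib
import Cfsg.Agent.Lib.Helper1.F4Cent.Defs
import Cfsg.Agent.Lib.Helper5.RootCent.Check

set_option autoImplicit false

/-!
# Farm F4CENT (S2179), unit GE : the right hand sides centralise the involutions
-/

namespace Cfsg.Agent.Lib.Helper1.F4Cent

open Cfsg Cfsg.Lie Cfsg.Agent.Lib.Helper5.ChevSym Cfsg.Agent.Lib.Helper5.ChevStruct
  Cfsg.Agent.Lib.Helper5.F4T Cfsg.Agent.Lib.Helper5.RootCent

variable {F : Type*} [Field F]

/-- Boolean membership in `rootsI` -/
def inI (r : ℕ) : Bool := decide (chevF4.IsPosRoot r) || [20, 22].contains r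

/-- Boolean membership in `rootsII` -/
def inII (r : ℕ) : Bool :=
  [33, 14, 24, 23].contains r || (decide (chevF4.IsPosRoot r) && !([27, 25, 34, 26].contains r))

theorem inI_of_mem (r : ℕ) (h : r ∈ rootsI) : inI r = true ∧ r < 48 := by
  unfold inI
  rcases h with h | h
  · exact ⟨by simp [h], h.1⟩
  · simp only [List.mem_cons, List.not_mem_nil, or_false] at h
    rcases h with rfl | rfl <;> exact ⟨by decide, by decide⟩

theorem inII_of_mem (r : ℕ) (h : r ∈ rootsII) : inII r = true ∧ r < 48 := by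
  unfold inII
  rcases h with h | ⟨h1, h2⟩
  · simp only [List.mem_cons, List.not_mem_nil, or_false] at h
    rcases h with rfl | rfl | rfl | rfl <;> exact ⟨by decide, by decide⟩
  · refine ⟨?_, h1.1⟩
    have : [27, 25, 34, 26].contains r = false := by
      rw [← Bool.not_eq_true, List.contains_iff_mem]
      exact h2
    rw [this, decide_eq_true h1]
    simp

/-- the Boolean check that the roots of a set commute with `θ` in characteristic two -/
def chkComm (p : ℕ → Bool) (θ : ℕ) : Bool :=
  (List.range 48).all fun r => !p r || r == θ || (r != chevF4.neg θ && commZero chevF4 2 θ r)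

theorem chk_I_47 : chkComm inI 47 = true := by decide +kernel
theorem chk_I_44 : chkComm inI 44 = true := by decide +kernel
theorem chk_II_39 : chkComm inII 39 = true := by decide +kernel
theorem chk_II_45 : chkComm inII 45 = true := by decide +kernel

theorem comm_of_chk [CharP F 2] (p : ℕ → Bool) (θ : ℕ) (hθ : θ < 48) (h : chkComm p θ = true)
    (r : ℕ) (hr : r < 48) (hp : p r = true) (a e : F) :
    Commute (xGL chevF4 hF4 r a) (xGL chevF4 hF4 θ e) := by
  unfold chkComm at h
  rw [List.all_eq_true] at h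
  have h1 := h r (List.mem_range.2 hr)
  rw [hp] at h1
  simp only [Bool.not_true, Bool.false_or, Bool.or_eq_true, beq_iff_eq, Bool.and_eq_true,
    bne_iff_ne, ne_eq] at h1
  apply Units.ext
  rw [Units.val_mul, Units.val_mul, xGL_val, xGL_val]
  rcases h1 with rfl | ⟨h2, h3⟩
  · rw [x_add chevF4 hF4, x_add chevF4 hF4, add_comm]
  · by_cases e0 : r = θ
    · subst e0
      rw [x_add chevF4 hF4, x_add chevF4 hF4, add_comm]
    · exact x_comm_of_zero chevF4 hF4 θ r hθ hr e0 h2 (commZero_spec chevF4 2 θ r h3) e a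

section char2

variable [CharP F 2]

/-- Unit GE: the generators of `RII` commute with `x₃₉(e)` and `x₄₅(f)` for ALL parameters -/
theorem GE_comm (r : ℕ) (hr : r ∈ rootsII) (a e : F) :
    Commute (xGL chevF4 hF4 r a) (xGL chevF4 hF4 39 e) ∧
    Commute (xGL chevF4 hF4 r a) (xGL chevF4 hF4 45 e) := by
  obtain ⟨h1, h2⟩ := inII_of_mem r hr
  exact ⟨comm_of_chk inII 39 (by decide) chk_II_39 r h2 h1 a e,
    comm_of_chk inII 45 (by decide) chk_II_45 r h2 h1 a e⟩

theorem GE_comm_I (r : ℕ) (hr : r ∈ rootsI) (a e : F) :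
    Commute (xGL chevF4 hF4 r a) (xGL chevF4 hF4 47 e) ∧
    Commute (xGL chevF4 hF4 r a) (xGL chevF4 hF4 44 e) := by
  obtain ⟨h1, h2⟩ := inI_of_mem r hr
  exact ⟨comm_of_chk inI 47 (by decide) chk_I_47 r h2 h1 a e,
    comm_of_chk inI 44 (by decide) chk_I_44 r h2 h1 a e⟩

end char2

/-- a root set subgroup commutes with what its generators commute with -/
theorem rootSetSub_comm (S : Set ℕ) (z : GL chevF4.Idx F)
    (h : ∀ r ∈ S, ∀ a : F, Commute (xGL chevF4 hF4 r a) z) (g : GL chevF4.Idx F)
    (hg : g ∈ rootSetSub chevF4 F S) : Commute g z := by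
  unfold rootSetSub at hg
  induction hg using Subgroup.closure_induction with
  | mem y hy =>
    obtain ⟨s, u, hs, hy⟩ := hy
    have : y = xGL chevF4 hF4 s u := Units.ext hy
    rw [this]
    exact h s hs u
  | one => exact Commute.one_left _
  | mul x y _ _ hx hy => exact Commute.mul_left hx hy
  | inv x _ hx => exact Commute.inv_left hx

theorem rootSetSub_le_group (S : Set ℕ) : rootSetSub chevF4 F S ≤ chevF4.group F := by
  unfold rootSetSub
  rw [Subgroup.closure_le]
  rintro g ⟨s, c, -, hg⟩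
  have : g = xGL chevF4 hF4 s c := Units.ext hg
  rw [this]
  exact xGL_mem_group chevF4 hF4 s c

variable [CharP F 2]

/-- `RII` centralises `x₃₉(e) x₄₅(f)` for all parameters -/
theorem RII_comm (g : GL chevF4.Idx F) (hg : g ∈ RII F) (e f : F) :
    Commute g (xGL chevF4 hF4 39 e * xGL chevF4 hF4 45 f) :=
  rootSetSub_comm rootsII _ (fun r hr a =>
    Commute.mul_right (GE_comm r hr a e).1 (GE_comm r hr a f).2) g hg

theorem RI_comm (g : GL chevF4.Idx F) (hg : g ∈ RI F) (e f : F) :
    Commute g (xGL chevF4 hF4 47 e * xGL chevF4 hF4 44 f) :=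
  rootSetSub_comm rootsI _ (fun r hr a =>
    Commute.mul_right (GE_comm_I r hr a e).1 (GE_comm_I r hr a f).2) g hg

/-- Unit GE: the easy inclusions -/
theorem GE_I : RI F ≤ chevF4.group F ⊓ Subgroup.centralizer {wI F} := by
  intro g hg
  refine ⟨rootSetSub_le_group rootsI hg, ?_⟩
  show g ∈ Subgroup.centralizer {wI F}
  rw [Subgroup.mem_centralizer_iff]
  intro y hy
  rw [Set.mem_singleton_iff.1 hy]
  exact (RI_comm g hg 1 1).eq.symm

theorem GE_II : RII F ≤ chevF4.group F ⊓ Subgroup.centralizer {vII F} := by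
  intro g hg
  refine ⟨rootSetSub_le_group rootsII hg, ?_⟩
  show g ∈ Subgroup.centralizer {vII F}
  rw [Subgroup.mem_centralizer_iff]
  intro y hy
  rw [Set.mem_singleton_iff.1 hy]
  exact (RII_comm g hg 1 1).eq.symm

end Cfsg.Agent.Lib.Helper1.F4Cent
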