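import Mathlib
import Cfsg.Agent.Lib.Helper1.F4Cent.GE
import Cfsg.Agent.Lib.Helper5.ChevLevi
import Cfsg.Agent.Lib.Helper5.ChevW0
import Cfsg.Agent.Lib.Helper5.ChevNConj

set_option autoImplicit false

/-!
# Farm F4CENT (S2179), unit S4a : the first centralizer (cell and torus lemmas as hypotheses)
-/

namespace Cfsg.Agent.Lib.Helper1.F4Cent

open Cfsg Cfsg.Lie Cfsg.Agent.Lib.Helper5.ChevSym Cfsg.Agent.Lib.Helper5.ChevStruct
  Cfsg.Agent.Lib.Helper5.F4T

variable {F : Type*} [Field F]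

theorem pos_le_rootSetSub (S : Set ℕ) (h : ∀ r, chevF4.IsPosRoot r → r ∈ S) :
    chevF4.posUnipotent F ≤ rootSetSub chevF4 F S := by
  unfold ChevalleyDatum.posUnipotent rootSetSub
  apply Subgroup.closure_mono
  rintro g ⟨r, t, hr, hg⟩
  exact ⟨r, t, h r hr, hg⟩

theorem simple_facts : chevF4.simple 0 = 33 ∧ chevF4.simple 1 = 27 ∧ chevF4.simple 2 = 25 ∧
    chevF4.simple 3 = 24 ∧ chevF4.neg 33 = 14 ∧ chevF4.neg 27 = 20 ∧ chevF4.neg 25 = 22 ∧
    chevF4.neg 24 = 23 := by decide +kernel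

/-- `n_w` lies in a root set subgroup containing `± p_j`, `j ∈ J`, for a word `w` in `J` -/
theorem wGL_mem_rootSetSub (S : Set ℕ) (J : List ℕ)
    (hS : ∀ j ∈ J, chevF4.simple j ∈ S ∧ chevF4.neg (chevF4.simple j) ∈ S)
    (wJ : List ℕ) (hwJ : ∀ i ∈ wJ, i ∈ J) :
    (wGL chevF4 hF4 wJ : GL chevF4.Idx F) ∈ rootSetSub chevF4 F S := by
  induction wJ with
  | nil =>
    rw [wGL_nil]
    exact one_mem _
  | cons i w ih =>
    rw [wGL_cons]
    apply mul_mem _ (ih (fun j hj => hwJ j (List.mem_cons_of_mem _ hj)))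
    obtain ⟨h1, h2⟩ := hS i (hwJ i List.mem_cons_self)
    unfold nGL
    apply wordGL_mem_rootSetSub chevF4 hF4
    intro q hq
    unfold ChevalleyDatum.nWord at hq
    simp only [List.mem_cons, List.not_mem_nil, or_false] at hq
    rcases hq with rfl | rfl | rfl
    · exact h1
    · exact h2
    · exact h1

/-- a cell `B n_w B`, `w` a word in `J`, lies in `R H` when `R ⊇ U` contains `X_{± p_j}` -/
theorem cell_mem_mul (S : Set ℕ) (J : List ℕ) (hpos : ∀ r, chevF4.IsPosRoot r → r ∈ S)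
    (hS : ∀ j ∈ J, chevF4.simple j ∈ S ∧ chevF4.neg (chevF4.simple j) ∈ S)
    (b1 b2 : GL chevF4.Idx F) (hb1 : b1 ∈ chevF4.borelSubgroup F)
    (hb2 : b2 ∈ chevF4.borelSubgroup F) (wJ : List ℕ) (hwJ : ∀ i ∈ wJ, i ∈ J) :
    ∃ q ∈ rootSetSub chevF4 F S, ∃ h ∈ chevF4.diagonalSubgroup F,
      b1 * wGL chevF4 hF4 wJ * b2 = q * h := by
  have hB : chevF4.borelSubgroup F ≤ rootSetSub chevF4 F S ⊔ chevF4.diagonalSubgroup F := by
    unfold ChevalleyDatum.borelSubgroup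
    exact sup_le_sup_right (pos_le_rootSetSub S hpos) _
  have hw : (wGL chevF4 hF4 wJ : GL chevF4.Idx F)
      ∈ rootSetSub chevF4 F S ⊔ chevF4.diagonalSubgroup F :=
    Subgroup.mem_sup_left (wGL_mem_rootSetSub S J hS wJ hwJ)
  have hg : b1 * wGL chevF4 hF4 wJ * b2 ∈ ((rootSetSub chevF4 F S ⊔ chevF4.diagonalSubgroup F :
      Subgroup (GL chevF4.Idx F)) : Set (GL chevF4.Idx F)) :=
    mul_mem (mul_mem (hB hb1) hw) (hB hb2)
  rw [Subgroup.coe_mul_of_right_le_normalizer_left _ _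
    (diagonal_le_normalizer_rootSetSub chevF4 hF4 S)] at hg
  obtain ⟨q, hq, h, hh, e⟩ := Set.mem_mul.1 hg
  exact ⟨q, hq, h, hh, e.symm⟩

variable [CharP F 2]

/-- Unit S4a: the first centralizer -/
theorem S4a_of
    (hCELL : ∀ g : GL chevF4.Idx F, g ∈ chevF4.group F → Commute g (wI F) →
      ∃ b1 ∈ chevF4.borelSubgroup F, ∃ b2 ∈ chevF4.borelSubgroup F, ∃ wJ : List ℕ,
        (∀ i ∈ wJ, i ∈ [1, 2]) ∧ g = b1 * wGL chevF4 hF4 wJ * b2)
    (hTOR : ∀ h : GL chevF4.Idx F, h ∈ chevF4.diagonalSubgroup F → Commute h (wI F) →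
      h ∈ RI F)
    (g : GL chevF4.Idx F) (hg : g ∈ chevF4.group F) (hc : Commute g (wI F)) : g ∈ RI F := by
  obtain ⟨b1, hb1, b2, hb2, wJ, hwJ, rfl⟩ := hCELL g hg hc
  obtain ⟨s0, s1, s2, s3, n0, n1, n2, n3⟩ := simple_facts
  obtain ⟨q, hq, h, hh, e⟩ := cell_mem_mul (F := F) rootsI [1, 2] (fun r hr => Or.inl hr)
    (by
      intro j hj
      simp only [List.mem_cons, List.not_mem_nil, or_false] at hj
      rcases hj with rfl | rfl
      · rw [s1, n1]
        exact ⟨Or.inl (by decide), Or.inr (by decide)⟩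
      · rw [s2, n2]
        exact ⟨Or.inl (by decide), Or.inr (by decide)⟩) b1 b2 hb1 hb2 wJ hwJ
  rw [e] at hc ⊢
  have hqc : Commute q (wI F) := RI_comm q hq 1 1
  have hhc : Commute h (wI F) := by
    have eh : h = q⁻¹ * (q * h) := by group
    rw [eh]
    exact Commute.mul_left (Commute.inv_left hqc) hc
  exact mul_mem hq (hTOR h hh hhc)

end Cfsg.Agent.Lib.Helper1.F4Cent
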