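import Mathlib
import Cfsg.Agent.Lib.Helper1.F4Cent.GE

set_option autoImplicit false

/-!
# Farm F4CENT (S2179), unit S4b : the second centralizer (the other units as hypotheses)
-/

namespace Cfsg.Agent.Lib.Helper1.F4Cent

open Cfsg Cfsg.Lie Cfsg.Agent.Lib.Helper5.ChevSym Cfsg.Agent.Lib.Helper5.ChevStruct
  Cfsg.Agent.Lib.Helper5.F4T

variable {F : Type*} [Field F] [CharP F 2]

theorem rootsL_sub : rootsL ⊆ rootsII := fun _ hr => Or.inl hr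

theorem rootsPsi_sub : rootsPsi ⊆ rootsII := by
  rintro r ⟨h1, h2⟩
  refine Or.inr ⟨h1, ?_⟩
  intro h
  apply h2
  simp only [List.mem_cons, List.not_mem_nil, or_false] at h ⊢
  tauto

/-- Unit S4b: the second centralizer -/
theorem S4b_of
    (hCELL : ∀ g : GL chevF4.Idx F, g ∈ chevF4.group F → Commute g (vII F) →
      ∃ b1 ∈ chevF4.borelSubgroup F, ∃ b2 ∈ chevF4.borelSubgroup F, ∃ wJ : List ℕ,
        (∀ i ∈ wJ, i ∈ [0, 3]) ∧ g = b1 * wGL chevF4 hF4 wJ * b2)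
    (hPD : ∀ b1 b2 : GL chevF4.Idx F, b1 ∈ chevF4.borelSubgroup F →
      b2 ∈ chevF4.borelSubgroup F → ∀ wJ : List ℕ, (∀ i ∈ wJ, i ∈ [0, 3]) →
      ∃ u ∈ chevF4.unipotentRadical F {0, 3}, ∃ l ∈ rootSetSub chevF4 F rootsL,
        ∃ h ∈ chevF4.diagonalSubgroup F, b1 * wGL chevF4 hF4 wJ * b2 = u * l * h)
    (hTOR : ∀ h : GL chevF4.Idx F, h ∈ chevF4.diagonalSubgroup F →
      ∃ e f : F, e ≠ 0 ∧ f ≠ 0 ∧
        h * vII F * h⁻¹ = xGL chevF4 hF4 39 e * xGL chevF4 hF4 45 f ∧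
        (e = 1 → f = 1 → h ∈ rootSetSub chevF4 F rootsL))
    (hTH : ∀ u : GL chevF4.Idx F, u ∈ chevF4.unipotentRadical F {0, 3} → ∀ e f : F,
      e ≠ 0 → f ≠ 0 →
      u * (xGL chevF4 hF4 39 e * xGL chevF4 hF4 45 f) * u⁻¹ = vII F →
      e = 1 ∧ f = 1 ∧ u ∈ rootSetSub chevF4 F rootsPsi)
    (g : GL chevF4.Idx F) (hg : g ∈ chevF4.group F) (hc : Commute g (vII F)) : g ∈ RII F := by
  obtain ⟨b1, hb1, b2, hb2, wJ, hwJ, rfl⟩ := hCELL g hg hc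
  obtain ⟨u, hu, l, hl, h, hh, e⟩ := hPD b1 b2 hb1 hb2 wJ hwJ
  rw [e] at hc ⊢
  obtain ⟨e', f', he, hf, hconj, himp⟩ := hTOR h hh
  have hl' : l ∈ RII F := rootSetSub_mono chevF4 rootsL_sub hl
  have hlc := RII_comm l hl' e' f'
  have key : u * (xGL chevF4 hF4 39 e' * xGL chevF4 hF4 45 f') * u⁻¹ = vII F := by
    have h1 : vII F = (u * l * h) * vII F * (u * l * h)⁻¹ := by
      rw [hc.eq, mul_inv_cancel_right]
    calc u * (xGL chevF4 hF4 39 e' * xGL chevF4 hF4 45 f') * u⁻¹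
        = u * (l * (xGL chevF4 hF4 39 e' * xGL chevF4 hF4 45 f') * l⁻¹) * u⁻¹ := by
          rw [hlc.eq, mul_inv_cancel_right]
      _ = u * (l * (h * vII F * h⁻¹) * l⁻¹) * u⁻¹ := by rw [hconj]
      _ = (u * l * h) * vII F * (u * l * h)⁻¹ := by group
      _ = vII F := h1.symm
  obtain ⟨e1, f1, hu'⟩ := hTH u hu e' f' he hf key
  exact mul_mem (mul_mem (rootSetSub_mono chevF4 rootsPsi_sub hu') hl')
    (rootSetSub_mono chevF4 rootsL_sub (himp e1 f1))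

end Cfsg.Agent.Lib.Helper1.F4Cent
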