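import Mathlib
import Cfsg.Agent.Lib.Helper1.F4Cent.Cell2
import Cfsg.Agent.Lib.Helper1.F4Cent.S4a
import Cfsg.Agent.Lib.Helper1.F4Cent.S4b
import Cfsg.Agent.Lib.Helper3.F4CentFA
import Cfsg.Agent.Lib.Helper7.F4CentTB
import Cfsg.Agent.Lib.Helper4.F4CentTOR
import Cfsg.Agent.Lib.Helper4.F4CentSH

set_option autoImplicit false

/-!
# Farm F4CENT (S2179), unit Z : assembly
-/

namespace Cfsg.Agent.Lib.Helper1.F4Cent

open Cfsg Cfsg.Lie Cfsg.Agent.Lib.Helper5.ChevSym Cfsg.Agent.Lib.Helper5.ChevStruct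
  Cfsg.Agent.Lib.Helper5.F4T

variable {F : Type*} [Field F] [CharP F 2]

/-- the cells of the first centralizer -/
theorem CELL_I (g : GL chevF4.Idx F) (hg : g ∈ chevF4.group F) (hc : Commute g (wI F)) :
    ∃ b1 ∈ chevF4.borelSubgroup F, ∃ b2 ∈ chevF4.borelSubgroup F, ∃ wJ : List ℕ,
      (∀ i ∈ wJ, i ∈ [1, 2]) ∧ g = b1 * wGL chevF4 hF4 wJ * b2 :=
  CELL_I_of (fun b hb t h44 h47 => Cfsg.Agent.Lib.Helper3.F4Cent.h3_FA1 b hb t h44 h47)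
    (fun wd hwd h1 h2 => Cfsg.Agent.Lib.Helper7.F4Cent.h7_TB1 wd hwd h1 h2) g hg hc

/-- the cells of the second centralizer -/
theorem CELL_II (g : GL chevF4.Idx F) (hg : g ∈ chevF4.group F) (hc : Commute g (vII F)) :
    ∃ b1 ∈ chevF4.borelSubgroup F, ∃ b2 ∈ chevF4.borelSubgroup F, ∃ wJ : List ℕ,
      (∀ i ∈ wJ, i ∈ [0, 3]) ∧ g = b1 * wGL chevF4 hF4 wJ * b2 :=
  CELL_II_of (fun b hb t h39 h45 => Cfsg.Agent.Lib.Helper3.F4Cent.h3_FA2 b hb t h39 h45)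
    (fun wd hwd h1 h2 h3 h4 => Cfsg.Agent.Lib.Helper7.F4Cent.h7_TB2 wd hwd h1 h2 h3 h4) g hg hc

/-- the first centralizer -/
theorem cent_I : chevF4.group F ⊓ Subgroup.centralizer {wI F} = RI F := by
  apply le_antisymm _ GE_I
  rintro g ⟨hg, hc⟩
  have hc' : Commute g (wI F) := (Subgroup.mem_centralizer_iff.1 hc (wI F) rfl).symm
  exact S4a_of CELL_I (fun h hh hc => Cfsg.Agent.Lib.Helper4.F4Cent.TOR_I h hh hc) g hg hc'

/-- the second centralizer, from the units PD and TH -/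
theorem cent_II_of
    (hPD : ∀ b1 b2 : GL chevF4.Idx F, b1 ∈ chevF4.borelSubgroup F →
      b2 ∈ chevF4.borelSubgroup F → ∀ wJ : List ℕ, (∀ i ∈ wJ, i ∈ [0, 3]) →
      ∃ u ∈ chevF4.unipotentRadical F {0, 3}, ∃ l ∈ rootSetSub chevF4 F rootsL,
        ∃ h ∈ chevF4.diagonalSubgroup F, b1 * wGL chevF4 hF4 wJ * b2 = u * l * h)
    (hTH : ∀ u : GL chevF4.Idx F, u ∈ chevF4.unipotentRadical F {0, 3} → ∀ e f : F,
      e ≠ 0 → f ≠ 0 →
      u * (xGL chevF4 hF4 39 e * xGL chevF4 hF4 45 f) * u⁻¹ = vII F →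
      e = 1 ∧ f = 1 ∧ u ∈ rootSetSub chevF4 F rootsPsi) :
    chevF4.group F ⊓ Subgroup.centralizer {vII F} = RII F := by
  apply le_antisymm _ GE_II
  rintro g ⟨hg, hc⟩
  have hc' : Commute g (vII F) := (Subgroup.mem_centralizer_iff.1 hc (vII F) rfl).symm
  exact S4b_of CELL_II hPD (fun h hh => Cfsg.Agent.Lib.Helper4.F4Cent.TOR_II h hh) hTH g hg hc'

/-- the statement of S2179, from the units PD and TH -/
theorem main_of
    (hPD : ∀ b1 b2 : GL chevF4.Idx F, b1 ∈ chevF4.borelSubgroup F →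
      b2 ∈ chevF4.borelSubgroup F → ∀ wJ : List ℕ, (∀ i ∈ wJ, i ∈ [0, 3]) →
      ∃ u ∈ chevF4.unipotentRadical F {0, 3}, ∃ l ∈ rootSetSub chevF4 F rootsL,
        ∃ h ∈ chevF4.diagonalSubgroup F, b1 * wGL chevF4 hF4 wJ * b2 = u * l * h)
    (hTH : ∀ u : GL chevF4.Idx F, u ∈ chevF4.unipotentRadical F {0, 3} → ∀ e f : F,
      e ≠ 0 → f ≠ 0 →
      u * (xGL chevF4 hF4 39 e * xGL chevF4 hF4 45 f) * u⁻¹ = vII F →
      e = 1 ∧ f = 1 ∧ u ∈ rootSetSub chevF4 F rootsPsi)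
    (w v : GL chevF4.Idx F)
    (hw : (w : Matrix chevF4.Idx chevF4.Idx F) = chevF4.x F 47 1 * chevF4.x F 44 1)
    (hv : (v : Matrix chevF4.Idx chevF4.Idx F) = chevF4.x F 39 1 * chevF4.x F 45 1) :
    chevF4.group F ⊓ Subgroup.centralizer {w} = chevF4.posUnipotent F ⊔
      chevF4.rootSubgroup F 20 ⊔ chevF4.rootSubgroup F 22 ∧
    chevF4.group F ⊓ Subgroup.centralizer {v} = chevF4.rootSubgroup F 33 ⊔
      chevF4.rootSubgroup F 14 ⊔ chevF4.rootSubgroup F 24 ⊔ chevF4.rootSubgroup F 23 ⊔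
      Subgroup.closure {g : GL chevF4.Idx F | ∃ (r : ℕ) (c : F), chevF4.IsPosRoot r ∧
        r ∉ [27, 25, 34, 26] ∧ (g : Matrix chevF4.Idx chevF4.Idx F) = chevF4.x F r c} := by
  have ew : w = wI F := Units.ext (by rw [hw, wI, Units.val_mul, xGL_val, xGL_val])
  have ev : v = vII F := Units.ext (by rw [hv, vII, Units.val_mul, xGL_val, xGL_val])
  rw [ew, ev, Cfsg.Agent.Lib.Helper4.F4Cent.SH_I, Cfsg.Agent.Lib.Helper4.F4Cent.SH_II]
  exact ⟨cent_I, cent_II_of hPD hTH⟩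

end Cfsg.Agent.Lib.Helper1.F4Cent
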