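import Mathlib
import Cfsg.Agent.Lib.Helper1.F4Cent.Cell2
import Cfsg.Agent.Lib.Helper1.F4Cent.GE
import Cfsg.Agent.Lib.Helper1.F4Cent.S4b
import Cfsg.Agent.Lib.Helper5.F4T.Ident

set_option autoImplicit false

/-!
# Farm F4CENT (S2179), unit TH, part B : from the decomposition `u = k m` of the elements of `U_J`
(`k ∈ ⟨X_r : r ∈ Ψ⟩`, `m = x₂₇(a) x₃₄(b) x₂₅(c) x₂₆(d)`) to the statement of `TH_theta`
-/

namespace Cfsg.Agent.Lib.Helper1.F4Cent

open Cfsg Cfsg.Lie Cfsg.Agent.Lib.Helper5.ChevSym Cfsg.Agent.Lib.Helper5.ChevSymP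
  Cfsg.Agent.Lib.Helper5.ChevStruct Cfsg.Agent.Lib.Helper5.F4T

/-- Boolean membership in `rootsPsi` -/
def inPsi (r : ℕ) : Bool :=
  decide (chevF4.IsPosRoot r) && !([33, 24, 27, 25, 34, 26].contains r)

theorem inPsi_of_mem (r : ℕ) (h : r ∈ rootsPsi) : inPsi r = true ∧ r < 48 := by
  unfold inPsi
  obtain ⟨h1, h2⟩ := h
  refine ⟨?_, h1.1⟩
  have : [33, 24, 27, 25, 34, 26].contains r = false := by
    rw [← Bool.not_eq_true, List.contains_iff_mem]
    exact h2
  rw [this, decide_eq_true h1]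
  simp

theorem chk_Psi : ∀ θ ∈ T2, chkComm inPsi θ = true := by decide +kernel

-- variables: a = 0, b = 1, c = 2, d = 3, e = 4, f = 5
def thw1 : List (ℕ × PolyP) :=
  [(27, [([1,0,0,0,0,0], 1)]), (34, [([0,1,0,0,0,0], 1)]), (25, [([0,0,1,0,0,0], 1)]),
   (26, [([0,0,0,1,0,0], 1)]), (39, [([0,0,0,0,1,0], 1)]), (45, [([0,0,0,0,0,1], 1)])]

def thw2 : List (ℕ × PolyP) :=
  [(39, [([0,0,0,0,1,0], 1)]), (40, [([1,0,0,0,1,0], 1)]), (44, [([0,1,0,0,1,0], 1)]),
   (45, [([0,0,0,0,0,1], 1)]), (46, [([0,0,1,0,0,1], 1)]), (47, [([0,0,0,1,0,1], 1)]),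
   (27, [([1,0,0,0,0,0], 1)]), (34, [([0,1,0,0,0,0], 1)]), (25, [([0,0,1,0,0,0], 1)]),
   (26, [([0,0,0,1,0,0], 1)])]

set_option maxRecDepth 1000000 in
theorem chk_TH : ∀ col ∈ allCols,
    vecEqP 2 (wordColP chevF4 2 thw1 col) (wordColP chevF4 2 thw2 col) = true := by
  decide +kernel

variable {F : Type*} [Field F]

/-- the parameters of `m y m⁻¹` -/
def thc (a b c d e f : F) (r : ℕ) : F :=
  if r = 39 then e else if r = 40 then a * e else if r = 44 then b * e else if r = 45 then f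
  else if r = 46 then c * f else if r = 47 then d * f else 0

/-- the element `m = x₂₇(a) x₃₄(b) x₂₅(c) x₂₆(d)` -/
def thm (a b c d : F) : GL chevF4.Idx F :=
  xGL chevF4 hF4 27 a * xGL chevF4 hF4 34 b * xGL chevF4 hF4 25 c * xGL chevF4 hF4 26 d

theorem th_ident (hp : ((2 : ℕ) : F) = 0) (a b c d e f : F) :
    thm a b c d * (xGL chevF4 hF4 39 e * xGL chevF4 hF4 45 f)
      = prodT T2 (thc a b c d e f) * thm a b c d := by
  have h := wordMat_eq_of_check hp [a, b, c, d, e, f] thw1 thw2 (by decide) chk_TH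
  have e1 : evalWP [a, b, c, d, e, f] thw1
      = [(27, a), (34, b), (25, c), (26, d), (39, e), (45, f)] := by
    simp [evalWP, thw1, evalPolyP, evalMonoP, monoVal]
  have e2 : evalWP [a, b, c, d, e, f] thw2
      = [(39, e), (40, a * e), (44, b * e), (45, f), (46, c * f), (47, d * f),
         (27, a), (34, b), (25, c), (26, d)] := by
    simp [evalWP, thw2, evalPolyP, evalMonoP, monoVal]
  rw [e1, e2] at h
  apply Units.ext
  have a1 : thm a b c d * (xGL chevF4 hF4 39 e * xGL chevF4 hF4 45 f)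
      = wordGL chevF4 hF4 [(27, a), (34, b), (25, c), (26, d), (39, e), (45, f)] := by
    simp [thm, wordGL, mul_assoc]
  have a2 : prodT T2 (thc a b c d e f) * thm a b c d
      = wordGL chevF4 hF4 [(39, e), (40, a * e), (44, b * e), (45, f), (46, c * f), (47, d * f),
         (27, a), (34, b), (25, c), (26, d)] := by
    simp [thm, prodT, T2, thc, wordGL, mul_assoc]
  rw [a1, a2, wordGL_val, wordGL_val]
  exact h

variable [CharP F 2]

/-- `⟨X_r : r ∈ Ψ⟩` centralises the products along `T2` -/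
theorem Psi_comm (k : GL chevF4.Idx F) (hk : k ∈ rootSetSub chevF4 F rootsPsi) (t : ℕ → F) :
    Commute k (prodT T2 t) := by
  apply rootSetSub_comm rootsPsi _ _ k hk
  intro r hr a
  obtain ⟨h1, h2⟩ := inPsi_of_mem r hr
  unfold prodT
  apply Commute.list_prod_right
  intro x hx
  obtain ⟨s, hs, rfl⟩ := List.mem_map.1 hx
  exact comm_of_chk inPsi s (T2_pos s hs).1 (chk_Psi s hs) r h2 h1 a (t s)

/-- Unit TH from the decomposition of `U_J` -/
theorem TH_of
    (hA : ∀ u : GL chevF4.Idx F, u ∈ chevF4.unipotentRadical F {0, 3} →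
      ∃ k ∈ rootSetSub chevF4 F rootsPsi, ∃ a b c d : F, u = k * thm a b c d)
    (u : GL chevF4.Idx F) (hu : u ∈ chevF4.unipotentRadical F {0, 3}) (e f : F)
    (he : e ≠ 0) (hf : f ≠ 0)
    (h : u * (xGL chevF4 hF4 39 e * xGL chevF4 hF4 45 f) * u⁻¹ = vII F) :
    e = 1 ∧ f = 1 ∧ u ∈ rootSetSub chevF4 F rootsPsi := by
  have hp : ((2 : ℕ) : F) = 0 := CharP.cast_eq_zero F 2
  obtain ⟨k, hk, a, b, c, d, rfl⟩ := hA u hu
  have h1 : k * thm a b c d * (xGL chevF4 hF4 39 e * xGL chevF4 hF4 45 f) * (k * thm a b c d)⁻¹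
      = prodT T2 (thc a b c d e f) := by
    have := th_ident hp a b c d e f
    have hc := Psi_comm k hk (thc a b c d e f)
    calc k * thm a b c d * (xGL chevF4 hF4 39 e * xGL chevF4 hF4 45 f) * (k * thm a b c d)⁻¹
        = k * (thm a b c d * (xGL chevF4 hF4 39 e * xGL chevF4 hF4 45 f)) * (thm a b c d)⁻¹
            * k⁻¹ := by group
      _ = k * prodT T2 (thc a b c d e f) * k⁻¹ := by rw [this]; group
      _ = prodT T2 (thc a b c d e f) := by rw [hc.eq, mul_inv_cancel_right]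
  rw [h1, vII_eq] at h
  have key := fun r hr => Cfsg.Agent.Lib.Helper4.F4Cent.h4_coeff chevF4 hF4 T2 T2 (by decide)
    (by decide) T2_pos T2_pos T2_comm T2_comm _ _ h r (T2_pos r hr)
  have k39 := key 39 (by decide)
  have k40 := key 40 (by decide)
  have k44 := key 44 (by decide)
  have k45 := key 45 (by decide)
  have k46 := key 46 (by decide)
  have k47 := key 47 (by decide)
  simp only [T2, thc] at k39 k40 k44 k45 k46 k47
  norm_num at k39 k40 k44 k45 k46 k47
  have ha : a = 0 := by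
    rcases k40 with h | h
    · exact h
    · exact absurd h he
  have hb : b = 0 := by
    rcases k44 with h | h
    · exact h
    · exact absurd h he
  have hc : c = 0 := by
    rcases k46 with h | h
    · exact h
    · exact absurd h hf
  have hd : d = 0 := by
    rcases k47 with h | h
    · exact h
    · exact absurd h hf
  refine ⟨k39, k45, ?_⟩
  have z : ∀ r, xGL chevF4 hF4 r (0 : F) = 1 := fun r =>
    Units.ext (by rw [xGL_val, x_at_zero, Units.val_one])
  have hm : thm a b c d = 1 := by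
    rw [ha, hb, hc, hd]
    simp [thm, z]
  rw [hm, mul_one]
  exact hk

end Cfsg.Agent.Lib.Helper1.F4Cent
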